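import Mathlib
import Groth.Agent.FlatLocus.Main

set_option autoImplicit false

/-!
# Shrinking to a principal open neighbourhood of a closed subset
-/

universe u

namespace Groth.Agent.HensShrink

open PrimeSpectrum

variable {A R : Type u} [CommRing A] [CommRing R] [Algebra A R]

theorem exists_sub_one_mem (J : Ideal R) {U : Set (PrimeSpectrum R)} (hU : IsOpen U)
    (h : ∀ p : PrimeSpectrum R, J ≤ p.asIdeal → p ∈ U) :
    ∃ b : R, b - 1 ∈ J ∧ (basicOpen b : Set (PrimeSpectrum R)) ⊆ U := by
  obtain ⟨K, hK⟩ := (isClosed_iff_zeroLocus_ideal Uᶜ).mp hU.isClosed_compl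
  have hsup : K ⊔ J = ⊤ := by
    by_contra hne
    obtain ⟨m, hm, hle⟩ := Ideal.exists_le_maximal _ hne
    have hmem := h ⟨m, hm.isPrime⟩ (le_sup_right.trans hle)
    have : (⟨m, hm.isPrime⟩ : PrimeSpectrum R) ∈ Uᶜ := by
      rw [hK, mem_zeroLocus]; exact (le_sup_left : K ≤ K ⊔ J).trans hle
    exact this hmem
  obtain ⟨k, hk, j, hj, hkj⟩ := Submodule.mem_sup.mp ((Ideal.eq_top_iff_one _).mp hsup)
  refine ⟨k, ?_, fun p hp => ?_⟩
  · have : k - 1 = -j := by rw [← hkj]; ring
    rw [this]; exact J.neg_mem hj
  · by_contra hpU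
    have hpc : p ∈ Uᶜ := hpU
    rw [hK, mem_zeroLocus] at hpc
    exact hp (hpc hk)

theorem quotientMap_away_bijective (J : Ideal R) (b : R) (hb : b - 1 ∈ J) :
    Function.Bijective (Ideal.quotientMap (J.map (algebraMap R (Localization.Away b)))
      (algebraMap R (Localization.Away b)) Ideal.le_comap_map) := by
  have hbJ : Ideal.Quotient.mk J b = 1 := by
    rw [← map_one (Ideal.Quotient.mk J)]; exact Ideal.Quotient.eq.mpr hb
  refine ⟨Ideal.quotientMap_injective' (fun x hx => ?_), fun y => ?_⟩
  · rw [Ideal.mem_comap, IsLocalization.algebraMap_mem_map_algebraMap_iff (.powers b)] at hx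
    obtain ⟨s, ⟨n, rfl⟩, hs⟩ := hx
    rw [← Ideal.Quotient.eq_zero_iff_mem] at hs ⊢
    simpa [map_mul, map_pow, hbJ] using hs
  · obtain ⟨y, rfl⟩ := Ideal.Quotient.mk_surjective y
    obtain ⟨r, ⟨s, n, rfl⟩, rfl⟩ := IsLocalization.exists_mk'_eq (.powers b) y
    refine ⟨Ideal.Quotient.mk J r, ?_⟩
    rw [Ideal.quotientMap_mk]
    have h1 : Ideal.Quotient.mk (J.map (algebraMap R (Localization.Away b)))
        (algebraMap R (Localization.Away b) b) = 1 := by
      rw [← map_one (Ideal.Quotient.mk _)]
      refine Ideal.Quotient.eq.mpr ?_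
      rw [← map_one (algebraMap R (Localization.Away b)), ← map_sub]
      exact Ideal.mem_map_of_mem _ hb
    have h2 := congrArg (Ideal.Quotient.mk (J.map (algebraMap R (Localization.Away b))))
      (IsLocalization.mk'_spec (M := Submonoid.powers b) (Localization.Away b) r ⟨b ^ n, n, rfl⟩)
    simpa [map_mul, map_pow, h1] using h2.symm

theorem flat_away [Algebra.FinitePresentation A R] {b : R}
    (h : ∀ p ∈ basicOpen b, Module.Flat A (Localization.AtPrime (p : PrimeSpectrum R).asIdeal)) :
    Module.Flat A (Localization.Away b) := by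
  refine Module.flat_of_isLocalized_maximal (Localization.Away b) (Localization.Away b)
    (fun P => Localization.AtPrime P) (fun P => Algebra.linearMap _ _) fun P hP => ?_
  have hp : comap (algebraMap R (Localization.Away b)) ⟨P, hP.isPrime⟩ ∈ basicOpen b := by
    intro hb
    exact hP.ne_top (Ideal.eq_top_of_isUnit_mem _ hb
      (IsLocalization.map_units (Localization.Away b) (⟨b, 1, pow_one b⟩ : Submonoid.powers b)))
  haveI : Module.Flat A (Localization.AtPrime (P.comap (algebraMap R (Localization.Away b)))) :=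
    h _ hp
  haveI : IsLocalization.AtPrime (Localization.AtPrime P)
      (P.comap (algebraMap R (Localization.Away b))) :=
    IsLocalization.isLocalization_isLocalization_atPrime_isLocalization (.powers b) _ P
  exact Module.Flat.of_linearEquiv (((IsLocalization.algEquiv
    (P.comap (algebraMap R (Localization.Away b))).primeCompl (Localization.AtPrime P)
    (Localization.AtPrime (P.comap (algebraMap R (Localization.Away b))))).restrictScalars A).toLinearEquiv)

theorem isOpen_flatLocus [Algebra.FinitePresentation A R] :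
    IsOpen {p : PrimeSpectrum R | Module.Flat A (Localization.AtPrime p.asIdeal)} :=
  FlatLocus.isOpen_flat_locus (R := A) (S := R) (M := R)

theorem quasiFinite_away_of_bijective [Algebra.FiniteType A R] (p : Ideal R) [p.IsPrime]
    [Algebra.QuasiFiniteAt A p] :
    ∃ r ∉ p, Algebra.QuasiFinite A (Localization.Away r) := by
  obtain ⟨S', hS', r, hrp, H⟩ :=
    Algebra.QuasiFiniteAt.exists_fg_and_exists_notMem_and_awayMap_bijective (R := A) p
  have : Module.Finite A S' := ⟨(Submodule.fg_top _).mpr hS'⟩
  have : Algebra.QuasiFinite A (Localization.Away r) :=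
    .trans _ S' _
  exact ⟨r.1, hrp, .of_surjective_algHom (Localization.awayMapₐ S'.val r) H.2⟩

theorem exists_quasiFinite_away [Algebra.FiniteType A R] (J : Ideal R)
    (h : ∀ p : PrimeSpectrum R, J ≤ p.asIdeal → Algebra.QuasiFiniteAt A p.asIdeal) :
    ∃ b : R, b - 1 ∈ J ∧ Algebra.QuasiFinite A (Localization.Away b) := by
  let W : Set R := {r | Algebra.QuasiFinite A (Localization.Away r)}
  obtain ⟨b, hb, hsub⟩ := exists_sub_one_mem J
    (isOpen_biUnion fun r (_ : r ∈ W) => (basicOpen r).isOpen) fun p hp => by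
      haveI := h p hp
      obtain ⟨r, hr, hq⟩ := quasiFinite_away_of_bijective (A := A) p.asIdeal
      exact Set.mem_biUnion hq hr
  refine ⟨b, hb, ?_⟩
  haveI : Algebra.FiniteType A (Localization.Away b) :=
    Algebra.FiniteType.trans (S := R) inferInstance (IsLocalization.finiteType_of_monoid_fg (.powers b) _)
  rw [Algebra.QuasiFinite.iff_finite_comap_preimage_singleton]
  intro x
  obtain ⟨t, ht, htf, hcov⟩ := (isCompact_basicOpen b).elim_finite_subcover_image
    (fun r (_ : r ∈ W) => (basicOpen r).isOpen) hsub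
  have hfin : ∀ r ∈ W, ((basicOpen r : Set (PrimeSpectrum R)) ∩
      comap (algebraMap A R) ⁻¹' {x}).Finite := by
    intro r hr
    haveI : Algebra.QuasiFinite A (Localization.Away r) := hr
    refine ((Algebra.QuasiFinite.finite_comap_preimage_singleton (S := Localization.Away r) x).image
      (comap (algebraMap R (Localization.Away r)))).subset ?_
    rintro p ⟨hp1, hp2⟩
    rw [← localization_away_comap_range (Localization.Away r) r] at hp1
    obtain ⟨q, rfl⟩ := hp1
    refine ⟨q, ?_, rfl⟩
    rw [Set.mem_preimage, IsScalarTower.algebraMap_eq A R (Localization.Away r), comap_comp]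
    exact hp2
  refine Set.Finite.of_finite_image (f := comap (algebraMap R (Localization.Away b))) ?_
    (localization_comap_injective _ (.powers b)).injOn
  refine (htf.biUnion fun r hr => hfin r (ht hr)).subset ?_
  rintro _ ⟨q, hq, rfl⟩
  have hqb : comap (algebraMap R (Localization.Away b)) q ∈ (basicOpen b : Set (PrimeSpectrum R)) := by
    rw [← localization_away_comap_range (Localization.Away b) b]; exact ⟨q, rfl⟩
  obtain ⟨r, hr, hqr⟩ := Set.mem_iUnion₂.mp (hcov hqb)
  refine Set.mem_biUnion hr ⟨hqr, ?_⟩
  rw [Set.mem_preimage, IsScalarTower.algebraMap_eq A R (Localization.Away b), comap_comp] at hq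
  exact hq

end Groth.Agent.HensShrink
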